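import Cfsg.Prelude.Def_LieTypeDatum

/-! Stub: realises once the on-demand equation lemmas of the recursive / match-defined constants of `Def_LieTypeDatum`.
Import this file before unfolding them. -/

namespace Eqns.Def_LieTypeDatum

theorem t0 : True := by
  have := @Cfsg.IsInnerDiagonalAutOfType.eq_def.{0}
  have := @Cfsg.IsInnerDiagonalAutOfType.eq_1.{0}
  have := @Cfsg.IsInnerDiagonalAutOfType.eq_unfold.{0}
  trivial

theorem t1 : True := by
  have := @Cfsg.IsOfLieType.eq_def.{0}
  have := @Cfsg.IsOfLieType.eq_1.{0}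
  have := @Cfsg.IsOfLieType.eq_unfold.{0}
  trivial

end Eqns.Def_LieTypeDatum
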