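import Cfsg.Prelude.Def_Spor_Ru

/-! Stub: realises once the on-demand equation lemmas of the recursive / match-defined constants of `Def_Spor_Ru`.
Import this file before unfolding them. -/

namespace Eqns.Def_Spor_Ru

theorem t0 : True := by
  have := @Cfsg.Spor.ruRk.eq_def
  have := @Cfsg.Spor.ruRk.eq_1
  have := @Cfsg.Spor.ruRk.eq_unfold
  trivial

theorem t1 : True := by
  have := @Cfsg.Spor.ruRj.eq_def
  have := @Cfsg.Spor.ruRj.eq_1
  have := @Cfsg.Spor.ruRj.eq_unfold
  trivial

end Eqns.Def_Spor_Ru
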